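import Groth.Agent.Lib.ZClos.Support
import Groth.Agent.Lib.ZClos.Local
import Groth.Agent.Lib.FunFlat6.Sheaf
import Groth.Agent.Lib.FlatBC.Push
import Groth.Agent.Lib.QCoh.Qcqs
import Groth.Agent.Lib.QCoh.Abelian

/-!
# The Z-closure commutes with flat inverse images
-/

set_option autoImplicit false
set_option maxHeartbeats 600000
universe u

open CategoryTheory CategoryTheory.Limits AlgebraicGeometry TopologicalSpace Opposite

namespace GrothLib.ZClosPull5

open GrothLib.ZClosure

variable {X X' : Scheme.{u}}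

/-- Modules isomorphic to a direct image from `U` are their own `j_*j^*`. -/
theorem isIso_unit_of_iso_pushforward {U : X.Opens} {G : X.Modules} {N : (U : Scheme.{u}).Modules}
    (e : G ≅ (Scheme.Modules.pushforward U.ι).obj N) : IsIso ((_root_.ZClos.resPushUnit U).app G) := by
  let adj := Scheme.Modules.restrictAdjunction U.ι
  haveI : IsIso ((Scheme.Modules.pushforward U.ι).map (adj.counit.app N)) := inferInstance
  haveI : IsIso (adj.unit.app ((Scheme.Modules.pushforward U.ι).obj N)) :=
    IsIso.of_isIso_fac_right (adj.right_triangle_components N)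
  exact (NatTrans.isIso_app_iff_of_iso adj.unit e).2 inferInstance

variable [IsLocallyNoetherian X] [IsLocallyNoetherian X'] (f : X' ⟶ X) [Flat f]

/-- Being `j_*j^*` of itself is preserved by flat inverse image. -/
theorem isIso_unit_pullback (U : X.Opens) (G : X.Modules) [G.IsQuasicoherent]
    [IsIso ((_root_.ZClos.resPushUnit U).app G)] :
    IsIso ((_root_.ZClos.resPushUnit (f ⁻¹ᵁ U)).app ((Scheme.Modules.pullback f).obj G)) := by
  have := FlatBC.isIso_bcMap (isPullback_morphismRestrict f U) ((Scheme.Modules.restrictFunctor U.ι).obj G)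
  exact isIso_unit_of_iso_pushforward
    ((Scheme.Modules.pullback f).mapIso (asIso ((_root_.ZClos.resPushUnit U).app G)) ≪≫
      asIso (AffBC.bcMap (isPullback_morphismRestrict f U) ((Scheme.Modules.restrictFunctor U.ι).obj G)))

omit [IsLocallyNoetherian X] [Flat f] in
/-- A member of the index upstairs is, on a quasi-compact open, inside the inverse image of one downstairs. -/
theorem exists_cl_preimage {Z : Set X} (hZ : StableUnderSpecialization Z)
    (T' : _root_.ZClos.Cl (f.base ⁻¹' Z)) {V : X'.Opens} (hV : IsCompact (V : Set X')) :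
    ∃ T : _root_.ZClos.Cl Z, (T'.1 : Set X') ∩ V ⊆ f.base ⁻¹' (T.1 : Set X) := by
  haveI : NoetherianSpace (V : Set X') :=
    (noetherianSpace_set_iff _).2 fun t ht => isCompact_of_subset hV ht
  haveI : QuasiSober (V : Set X') := V.2.isOpenEmbedding_subtypeVal.quasiSober
  have hS : IsClosed (Subtype.val ⁻¹' (T'.1 : Set X') : Set (V : Set X')) :=
    T'.1.isClosed.preimage continuous_subtype_val
  obtain ⟨t, htf, htc, hti, hte⟩ := NoetherianSpace.exists_finite_set_isClosed_irreducible hS
  have hη : ∀ C (hC : C ∈ t), ((hti C hC).genericPoint : X') ∈ (T'.1 : Set X') := fun C hC => by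
    have hmem := ((hti C hC).isGenericPoint_genericPoint (htc C hC)).mem
    have h : (hti C hC).genericPoint ∈ (Subtype.val ⁻¹' (T'.1 : Set X') : Set (V : Set X')) :=
      hte ▸ ⟨C, hC, hmem⟩
    exact h
  haveI := htf.to_subtype
  refine ⟨⟨⟨⋃ C : t, closure {f.base ((hti C.1 C.2).genericPoint : X')},
      isClosed_iUnion_of_finite fun _ => isClosed_closure⟩,
      Set.iUnion_subset fun C x hx => hZ (specializes_iff_mem_closure.2 hx) (T'.2 (hη C.1 C.2))⟩, ?_⟩
  rintro x ⟨hxT, hxV⟩
  obtain ⟨C, hC, hxC⟩ := hte ▸ (show (⟨x, hxV⟩ : (V : Set X')) ∈ Subtype.val ⁻¹' (T'.1 : Set X') from hxT)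
  refine Set.mem_iUnion.2 ⟨⟨C, hC⟩, specializes_iff_mem_closure.1 ?_⟩
  exact ((((hti C hC).isGenericPoint_genericPoint (htc C hC)).specializes hxC).map continuous_subtype_val).map
    f.continuous

variable {Z : Set X}

/-- The inverse image of a Z-closed quasi-coherent module is Z'-closed. -/
theorem isZClosed_pullback (hZ : StableUnderSpecialization Z) (G : X.Modules) [G.IsQuasicoherent]
    (hG : _root_.ZClos.IsZClosed Z G) :
    _root_.ZClos.IsZClosed (f.base ⁻¹' Z) ((Scheme.Modules.pullback f).obj G) := by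
  set H := (Scheme.Modules.pullback f).obj G
  rw [isZClosed_iff_res]
  intro T' V hV
  obtain ⟨T, hT⟩ := exists_cl_preimage f hZ T' hV
  have : IsIso ((_root_.ZClos.resPushUnit T.U).app G) := isIso_toDiagram_of_isZClosed hG T
  have := isIso_unit_pullback f T.U G
  have hb : ∀ A : X'.Opens, Function.Bijective (res H (inf_le_left : A ⊓ f ⁻¹ᵁ T.U ≤ A)) := fun A =>
    (res_bijective_congr H ((f ⁻¹ᵁ T.U).ι.image_preimage_le A) inf_le_left
      ((_root_.ZClos.ι_image_preimage _ A).trans (inf_comm _ _)) rfl).1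
      (app_bijective_of_isIso ((_root_.ZClos.resPushUnit (f ⁻¹ᵁ T.U)).app H) A)
  have hle : V ⊓ f ⁻¹ᵁ T.U ≤ V ⊓ T'.U := fun x hx => ⟨hx.1, fun hx' => hx.2 (hT ⟨hx', hx.1⟩)⟩
  have e : V ⊓ f ⁻¹ᵁ T.U = (V ⊓ T'.U) ⊓ f ⁻¹ᵁ T.U :=
    le_antisymm (le_inf hle inf_le_right) (inf_le_inf_right _ inf_le_left)
  have h2 : Function.Bijective (res H hle) :=
    (res_bijective_congr H hle inf_le_left e rfl).2 (hb (V ⊓ T'.U))
  have hcomp : ⇑(res H (inf_le_left : V ⊓ f ⁻¹ᵁ T.U ≤ V)) =
      ⇑(res H hle) ∘ ⇑(res H (inf_le_left : V ⊓ T'.U ≤ V)) :=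
    funext fun s => (res_res H hle inf_le_left s).symm
  exact (h2.of_comp_iff' _).1 (hcomp ▸ hb V)

omit [IsLocallyNoetherian X] [IsLocallyNoetherian X'] [Flat f] in
/-- Bijectivity of stalk maps is preserved by inverse image. -/
theorem stalk_bijective_pullback {M N : X.Modules} (v : M ⟶ N) (x : X')
    (h : Function.Bijective ((TopCat.Presheaf.stalkFunctor (C := Ab.{u}) (f x)).map v.mapPresheaf)) :
    Function.Bijective ((TopCat.Presheaf.stalkFunctor (C := Ab.{u}) x).map
      ((Scheme.Modules.pullback f).map v).mapPresheaf) := by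
  have : IsIso ((OX.stalk (f x)).map v) := (ConcreteCategory.isIso_iff_bijective _).2 h
  have h' : IsIso ((OX.stalk x).map ((Scheme.Modules.pullback f).map v)) := by
    rw [FunFlat6.stalk_pullback_map_eq]
    infer_instance
  have h'' : Function.Bijective ((OX.stalk x).map ((Scheme.Modules.pullback f).map v)) :=
    (ConcreteCategory.isIso_iff_bijective _).1 h'
  exact h''

theorem nonempty_pullback_H0_iso (hZ : StableUnderSpecialization Z) (F : X.Modules) [F.IsQuasicoherent] :
    Nonempty ((Scheme.Modules.pullback f).obj ((_root_.ZClos.H0 Z).obj F) ≅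
      (_root_.ZClos.H0 (f.base ⁻¹' Z)).obj ((Scheme.Modules.pullback f).obj F)) := by
  haveI : ((_root_.ZClos.H0 Z).obj F).IsQuasicoherent :=
    QCoh.isQuasicoherent_colimit ((_root_.ZClos.diagram Z).obj F) fun T =>
      QCoh.isQuasicoherent_pushforward T.U.ι ((Scheme.Modules.restrictFunctor T.U.ι).obj F)
  have hG := isZClosed_pullback f hZ _ (isZClosed_H0 (Z := Z) F)
  obtain ⟨v, hv, -⟩ := existsUnique_fac hG ((Scheme.Modules.pullback f).map (_root_.ZClos.rhoApp Z F))
  have hZ' : StableUnderSpecialization (f.base ⁻¹' Z) := fun a b hab ha => hZ (hab.map f.continuous) ha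
  have : IsIso v := isIso_fac hZ' hG _
    (fun x hx => stalk_bijective_pullback f _ x (isZClosedAt_of_notMem F hx)) v hv
  exact ⟨(asIso v).symm⟩

end GrothLib.ZClosPull5
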